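import Groth.Agent.Snapper.Twist
import Groth.Agent.CMReg.FieldBC
import Groth.Agent.EulerChar.Basic
import Groth.Agent.KFlat.PullTensor
import Groth.Agent.QCoh.Pullback

/-!
# Intersection numbers and base change of the field
-/

universe u

set_option linter.style.haveILetI false

open CategoryTheory CategoryTheory.Limits AlgebraicGeometry

noncomputable section

namespace Groth.Agent.Snapper

variable {X X' : Scheme.{u}}

/-- pullback commutes with tensor lists -/
theorem pullback_tensorList (p : X' ⟶ X) : ∀ l : List X.Modules,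
    Nonempty ((Scheme.Modules.pullback p).obj (FGA.tensorList l) ≅
      FGA.tensorList (l.map (Scheme.Modules.pullback p).obj))
  | [] => ⟨QCoh.pullbackUnitIso p⟩
  | M :: l => by
    obtain ⟨e⟩ := pullback_tensorList p l
    exact ⟨KFlat.PullTensor.pullTensorIso p M (FGA.tensorList l) ≪≫ ProjTwist.tensCongr (Iso.refl _) e⟩

theorem finrank_HH_iso (k : Type u) [Field k] [X.Over (Spec (CommRingCat.of k))] {A B : X.Modules}
    (e : A ≅ B) (i : ℕ) : Module.finrank k (Coh.HH X A i) = Module.finrank k (Coh.HH X B i) := by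
  have h : ∀ {M N : X.Modules} (e : M ≅ N) (x : Coh.HH X M i),
      CurveCoh.mapL k e.inv i (CurveCoh.mapL k e.hom i x) = x := fun {M N} e x => by
    show Sheaf.H.map _ i (Sheaf.H.map _ i x) = x
    rw [← Sheaf.H.map_comp_apply, ← Functor.map_comp, e.hom_inv_id, CategoryTheory.Functor.map_id,
      Sheaf.H.map_id_apply]
  exact LinearEquiv.finrank_eq (LinearEquiv.ofBijective (CurveCoh.mapL k e.hom i)
    ⟨fun x y hxy => (h e x).symm.trans ((congrArg _ hxy).trans (h e y)), fun y => ⟨_, h e.symm y⟩⟩)

end Groth.Agent.Snapper
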