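import Mathlib.Algebra.MvPolynomial.CommRing
import Mathlib.Algebra.MvPolynomial.Degrees
import Mathlib.Algebra.MvPolynomial.Variables
import Mathlib.Algebra.Polynomial.AlgebraMap
import Mathlib.RingTheory.MvPolynomial.Basic
import Groth.Agent.S14405

/-!
# Functions on `ℕ^n` with polynomial partial differences are polynomial
-/

open MvPolynomial

noncomputable section

namespace Groth.Agent.Snapper

variable {n : ℕ}

/-- cast of an exponent vector to `ℚ` -/
def castV (m : Fin n → ℕ) : Fin n → ℚ := fun j => (m j : ℚ)

theorem totalDegree_aeval_le_natDegree {σ : Type*} (i : σ) (P : Polynomial ℚ) :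
    (Polynomial.aeval (X i : MvPolynomial σ ℚ) P).totalDegree ≤ P.natDegree := by
  rw [Polynomial.aeval_eq_sum_range]
  refine (totalDegree_finsetSum _ _).trans (Finset.sup_le fun j hj => ?_)
  refine (totalDegree_smul_le _ _).trans ((totalDegree_pow _ _).trans ?_)
  rw [totalDegree_X, mul_one]
  exact Nat.le_of_lt_succ (Finset.mem_range.1 hj)

/-- Antidifferences in one variable. -/
theorem exists_antidiff_mv (r : ℕ) (Q : MvPolynomial (Fin n) ℚ) (hQ : Q.totalDegree ≤ r) (i : Fin n) :
    ∃ P : MvPolynomial (Fin n) ℚ, P.totalDegree ≤ r + 1 ∧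
      ∀ x : Fin n → ℚ, eval (Function.update x i (x i + 1)) P - eval x P = eval x Q := by
  classical
  have hB : ∀ e : ℕ, ∃ B : Polynomial ℚ, B.natDegree ≤ e + 1 ∧
      ∀ t : ℚ, B.eval (t + 1) - B.eval t = t ^ e := fun e => by
    obtain ⟨P, hP1, -, hP2⟩ := S14405.exists_antidiff e ((Polynomial.X + Polynomial.C (-1)) ^ e)
      (Polynomial.natDegree_pow_le.trans (by rw [Polynomial.natDegree_X_add_C, mul_one]))
    refine ⟨P, hP1, fun t => ?_⟩
    have := congrArg (Polynomial.eval (t + 1)) hP2
    simpa using this
  choose B hB1 hB2 using hB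
  refine ⟨∑ s ∈ Q.support, monomial (s.erase i) (Q.coeff s) * Polynomial.aeval (X i) (B (s i)),
    (totalDegree_finsetSum _ _).trans (Finset.sup_le fun s hs => ?_), fun x => ?_⟩
  · refine (totalDegree_mul _ _).trans ?_
    have h1 : (monomial (s.erase i) (Q.coeff s)).totalDegree + s i ≤ r := by
      refine le_trans ?_ ((le_totalDegree hs).trans hQ)
      refine (Nat.add_le_add_right (totalDegree_monomial_le _ _) _).trans ?_
      by_cases hi : i ∈ s.support
      · rw [← Finsupp.add_sum_erase' s i (fun _ e => e) (fun _ => rfl), add_comm]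
        exact le_rfl
      · have : s i = 0 := Finsupp.notMem_support_iff.1 hi
        rw [this, Finsupp.erase_of_notMem_support hi, add_zero]
        exact le_rfl
    have h2 := (totalDegree_aeval_le_natDegree i (B (s i))).trans (hB1 (s i))
    omega
  · rw [map_sum, map_sum, ← Finset.sum_sub_distrib]
    conv_rhs => rw [Q.as_sum, map_sum]
    refine Finset.sum_congr rfl fun s hs => ?_
    have ev : ∀ y : Fin n → ℚ, ∀ P : Polynomial ℚ,
        eval y (Polynomial.aeval (X i) P) = P.eval (y i) := fun y P => by
      rw [← aeval_eq_eval, ← Polynomial.aeval_algHom_apply]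
      simp
    have emon : ∀ y : Fin n → ℚ, eval y (monomial (s.erase i) (Q.coeff s)) =
        Q.coeff s * ∏ j, y j ^ (s.erase i) j := fun y => by
      rw [eval_monomial, Finsupp.prod_fintype _ _ fun _ => pow_zero _]
    have hupd : ∏ j, (Function.update x i (x i + 1)) j ^ (s.erase i) j =
        ∏ j, x j ^ (s.erase i) j :=
      Finset.prod_congr rfl fun j _ => by
        rcases eq_or_ne j i with rfl | hj
        · simp
        · rw [Function.update_of_ne hj]
    rw [map_mul, map_mul, ev, ev, emon, emon, hupd, Function.update_self, ← mul_sub, hB2,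
      eval_monomial, Finsupp.prod_fintype _ _ fun _ => pow_zero _, mul_assoc]
    congr 1
    rw [← Finset.mul_prod_erase _ _ (Finset.mem_univ i), ← Finset.mul_prod_erase (a := i) Finset.univ
      (fun j => x j ^ s j) (Finset.mem_univ i)]
    simp only [Finsupp.erase_same, pow_zero, one_mul]
    rw [mul_comm]
    congr 1
    exact Finset.prod_congr rfl fun j hj => by rw [Finsupp.erase_ne (Finset.ne_of_mem_erase hj)]

theorem totalDegree_aeval_le {σ : Type*} (φ : σ → MvPolynomial σ ℚ)
    (hφ : ∀ j, (φ j).totalDegree ≤ 1) (P : MvPolynomial σ ℚ) :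
    (aeval φ P).totalDegree ≤ P.totalDegree := by
  classical
  conv_lhs => rw [P.as_sum, map_sum]
  refine (totalDegree_finsetSum _ _).trans (Finset.sup_le fun s hs => ?_)
  rw [aeval_monomial]
  refine (totalDegree_mul _ _).trans ?_
  rw [show (algebraMap ℚ (MvPolynomial σ ℚ)) (P.coeff s) = C (P.coeff s) from rfl, totalDegree_C,
    zero_add]
  refine (totalDegree_finsetProd _ _).trans ((Finset.sum_le_sum fun j _ => ?_).trans (le_totalDegree hs))
  exact (totalDegree_pow _ _).trans ((Nat.mul_le_mul_left _ (hφ j)).trans (mul_one _).le)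

/-- truncation: keep the first `a` coordinates -/
def trunc {α : Type*} [Zero α] (a : ℕ) (m : Fin n → α) : Fin n → α :=
  fun j => if (j : ℕ) < a then m j else 0

theorem castV_trunc (a : ℕ) (m : Fin n → ℕ) : castV (trunc a m) = trunc a (castV m) :=
  funext fun j => by simp only [castV, trunc]; split <;> simp

/-- A function on `ℕ^n` whose partial differences are those of polynomials of degree `≤ r` is a
polynomial of degree `≤ r`. -/
theorem exists_poly_of_diff (f : (Fin n → ℕ) → ℚ) (r : ℕ) (P : Fin n → MvPolynomial (Fin n) ℚ)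
    (hP : ∀ i, (P i).totalDegree ≤ r)
    (h : ∀ (i : Fin n) (m : Fin n → ℕ), f (Function.update m i (m i + 1)) - f m =
      eval (castV (Function.update m i (m i + 1))) (P i) - eval (castV m) (P i)) :
    ∃ R : MvPolynomial (Fin n) ℚ, R.totalDegree ≤ r ∧ ∀ m, f m = eval (castV m) R := by
  classical
  suffices H : ∀ a : ℕ, a ≤ n → ∃ R : MvPolynomial (Fin n) ℚ, R.totalDegree ≤ r ∧
      ∀ m : Fin n → ℕ, f (trunc a m) = eval (castV m) R by
    obtain ⟨R, hR, hRm⟩ := H n le_rfl
    refine ⟨R, hR, fun m => ?_⟩
    rw [← hRm m]
    congr 1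
    exact funext fun j => (if_pos j.2).symm
  intro a ha
  induction a with
  | zero =>
    refine ⟨C (f 0), by rw [totalDegree_C]; exact Nat.zero_le _, fun m => ?_⟩
    rw [eval_C]
    rfl
  | succ a ih =>
    obtain ⟨R, hR, hRm⟩ := ih (Nat.le_of_succ_le ha)
    let i : Fin n := ⟨a, ha⟩
    let φ : ℕ → Fin n → MvPolynomial (Fin n) ℚ := fun b j => if (j : ℕ) < b then X j else 0
    have hφ : ∀ b j, (φ b j).totalDegree ≤ 1 := fun b j => by
      simp only [φ]; split <;> simp
    refine ⟨R + (aeval (φ (a + 1)) (P i) - aeval (φ a) (P i)), ?_, fun m => ?_⟩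
    · refine (totalDegree_add _ _).trans (max_le hR ((totalDegree_sub _ _).trans (max_le ?_ ?_)))
      · exact (totalDegree_aeval_le _ (hφ _) _).trans (hP i)
      · exact (totalDegree_aeval_le _ (hφ _) _).trans (hP i)
    have hev : ∀ b, eval (castV m) (aeval (φ b) (P i)) = eval (castV (trunc b m)) (P i) := fun b => by
      rw [← aeval_eq_eval, ← AlgHom.comp_apply, comp_aeval, aeval_eq_eval]
      congr 2
      funext j
      simp only [φ, castV, trunc]
      split <;> simp [castV]
    rw [map_add, map_sub, hev, hev, ← hRm m]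
    have hsucc : trunc (a + 1) m = Function.update (trunc a m) i (m i) := funext fun j => by
      rcases eq_or_ne j i with rfl | hj
      · simp [trunc, i]
      · have hj' : (j : ℕ) ≠ a := fun e => hj (Fin.ext e)
        rw [Function.update_of_ne hj]
        simp only [trunc, Nat.lt_succ_iff_lt_or_eq, hj', or_false]
    have h0 : trunc a m = Function.update (trunc a m) i 0 := funext fun j => by
      rcases eq_or_ne j i with rfl | hj
      · simp [trunc, i]
      · rw [Function.update_of_ne hj]
    have line : ∀ t : ℕ, f (Function.update (trunc a m) i t) -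
        eval (castV (Function.update (trunc a m) i t)) (P i) =
        f (Function.update (trunc a m) i 0) -
          eval (castV (Function.update (trunc a m) i 0)) (P i) := by
      intro t
      induction t with
      | zero => rfl
      | succ t iht =>
        have := h i (Function.update (trunc a m) i t)
        rw [Function.update_idem, Function.update_self] at this
        linarith
    have := line (m i)
    rw [← hsucc, ← h0] at this
    linarith

theorem castV_update (m : Fin n → ℕ) (i : Fin n) :
    castV (Function.update m i (m i + 1)) = Function.update (castV m) i (castV m i + 1) :=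
  funext fun j => by
    rcases eq_or_ne j i with rfl | hj
    · simp [castV]
    · simp [castV, Function.update_of_ne hj]

end Groth.Agent.Snapper
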