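import Groth.Agent.Snapper.Basic
import Mathlib.Data.Nat.Choose.Basic

/-!
# `χ(L^m ⊗ F)` as a combination of binomial coefficients and self-intersection numbers
-/

universe u

set_option linter.style.haveILetI false

open CategoryTheory CategoryTheory.Limits AlgebraicGeometry

noncomputable section

namespace Groth.Agent.Snapper

open ProjTwist

theorem hockey (m : ℕ) : ∀ n : ℕ, ∑ i ∈ Finset.range (n + 1), ((m + i - 1).choose i : ℤ) = ((m + n).choose n : ℤ)
  | 0 => by simp
  | n + 1 => by
    rw [Finset.sum_range_succ, hockey m n, show m + (n + 1) - 1 = m + n by omega,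
      ← add_assoc, Nat.choose_succ_succ']
    push_cast
    ring

/-- summation by parts -/
theorem sum_by_parts (c D A : ℕ → ℤ) (h : ∀ j, A j = D j + A (j + 1)) : ∀ n : ℕ,
    ∑ i ∈ Finset.range n, c i * A i =
      ∑ i ∈ Finset.range n, (∑ l ∈ Finset.range (i + 1), c l) * D i +
        (∑ l ∈ Finset.range n, c l) * A n
  | 0 => by simp
  | n + 1 => by
    rw [Finset.sum_range_succ, sum_by_parts c D A h n, Finset.sum_range_succ _ n,
      Finset.sum_range_succ _ n, h n]
    ring

variable {X : Scheme.{u}} (k : Type u) [Field k] [X.Over (Spec (CommRingCat.of k))]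
  [IsProper (X ↘ Spec (CommRingCat.of k))]

theorem intE_zero (M : Fin 0 → X.Modules) (G : X.Modules) :
    intE k M G = Curv2.euler k X G := by
  unfold intE
  rw [Finset.sum_eq_single ∅ (fun b _ hb => absurd (Subsingleton.elim b ∅) hb)
    (fun h => absurd (Finset.mem_univ _) h)]
  simp only [Finset.card_empty, pow_zero, one_mul, Finset.sort_empty, List.map_nil]
  exact EulerChar.euler_iso k (oneTens G)

/-- `χ(L^m ⊗ G) = Σ_{i ≤ r} C(m+i-1, i) ∫ c₁(L)^i G` for `dim supp G ≤ r`. -/
theorem euler_tensorPow_eq {L M : X.Modules} (hL : PicF.IsInvertible L) (hM : PicF.IsInvertible M)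
    (e : CohB1.tensorMod L M ≅ Coh.structureModule X) (r : ℕ) : ∀ (m : ℕ) {G : X.Modules},
      Coh.IsCoh G → topologicalKrullDim ↥(CohB1.support G) ≤ (r : WithBot ℕ∞) →
      Curv2.euler k X (CohB1.tensorMod (CohB1.tensorPow L m) G) =
        ∑ i ∈ Finset.range (r + 1), ((m + i - 1).choose i : ℤ) * intE k (fun _ : Fin i => M) G := by
  haveI := EulerChar.isNoetherian k (X := X)
  intro m
  induction m with
  | zero =>
    intro G hG _
    rw [Finset.sum_eq_single 0]
    · rw [intE_zero]
      refine (EulerChar.euler_iso k (oneTens G)).trans ?_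
      simp
    · intro i _ hi
      rw [Nat.choose_eq_zero_of_lt (by omega), Nat.cast_zero, zero_mul]
    · simp
  | succ m ih =>
    intro G hG hd
    have hLG := isCoh_tensorMod k hL hG
    have hdL : topologicalKrullDim ↥(CohB1.support (CohB1.tensorMod L G)) ≤ (r : WithBot ℕ∞) :=
      (CohDev.dim_mono (CohDev.support_tens_subset L G)).trans hd
    refine ((EulerChar.euler_iso k (tensAssoc (CohB1.tensorPow L m) L G)).trans (ih hLG hdL)).trans ?_
    have hrec : ∀ j, intE k (fun _ : Fin j => M) (CohB1.tensorMod L G) =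
        intE k (fun _ : Fin j => M) G + intE k (fun _ : Fin (j + 1) => M) (CohB1.tensorMod L G) := by
      intro j
      have hc : (fun _ : Fin (j + 1) => M) = Fin.cons M (fun _ : Fin j => M) :=
        funext fun i => by induction i using Fin.cases <;> rfl
      rw [hc, intE_cons k (fun _ => hM) hM hLG, map_sub, intK_kcl k _ hLG,
        intK_kcl k _ (isCoh_tensorMod k hM hLG)]
      have e' : intE k (fun _ : Fin j => M) (CohB1.tensorMod M (CohB1.tensorMod L G)) =
          intE k (fun _ : Fin j => M) G :=
        Finset.sum_congr rfl fun I _ => congrArg _ (EulerChar.euler_iso k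
          (tensCongr (Iso.refl _) ((tensAssoc M L G).symm ≪≫
            tensCongr (tensComm M L ≪≫ e) (Iso.refl G) ≪≫ oneTens G)))
      rw [e']
      ring
    rw [sum_by_parts _ _ _ hrec (r + 1), intE_eq_zero k (fun _ => hM) hLG
      (lt_of_le_of_lt hdL (by exact_mod_cast Nat.lt_succ_self r)), mul_zero, add_zero]
    refine Finset.sum_congr rfl fun i _ => ?_
    rw [hockey, show m + 1 + i - 1 = m + i by omega]

end Groth.Agent.Snapper
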