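import Groth.Prelude.Def_FGA
import Groth.Agent.ProjTwist.Tensor
import Groth.Agent.AmpleLib.Basic
import Groth.Agent.LFFrame.Basic

/-!
# Iterated tensor products and multi-twists of invertible modules
-/

universe u

open CategoryTheory CategoryTheory.Limits AlgebraicGeometry

noncomputable section

namespace Groth.Agent.Snapper

variable {X : Scheme.{u}}

open ProjTwist

theorem isInvertible_tensorList : ∀ {l : List X.Modules}, (∀ M ∈ l, PicF.IsInvertible M) →
    PicF.IsInvertible (FGA.tensorList l)
  | [], _ => LFFrame.isInvertible_structureModule X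
  | M :: l, h => AmpleLib.isInvertible_tensorMod (h M (List.mem_cons_self ..))
      (isInvertible_tensorList fun N hN => h N (List.mem_cons_of_mem _ hN))

theorem isInvertible_multiTwist {n : ℕ} {L : Fin n → X.Modules}
    (hL : ∀ i, PicF.IsInvertible (L i)) (m : Fin n → ℕ) :
    PicF.IsInvertible (FGA.multiTwist L m) :=
  isInvertible_tensorList fun M hM => by
    obtain ⟨i, -, rfl⟩ := List.mem_map.1 hM
    exact AmpleLib.isInvertible_tensorPow (hL i) (m i)

/-- `(L ⊗ A) ⊗ B ≅ A ⊗ (L ⊗ B)` -/
def tensLeftComm (L A B : X.Modules) :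
    CohB1.tensorMod (CohB1.tensorMod L A) B ≅ CohB1.tensorMod A (CohB1.tensorMod L B) :=
  tensCongr (tensComm L A) (Iso.refl B) ≪≫ tensAssoc A L B

/-- changing one factor of a tensor list by `L ⊗ -` changes the product by `L ⊗ -` -/
theorem tensorList_map_update {ι : Type*} [DecidableEq ι] (L : X.Modules) (g g' : ι → X.Modules)
    (i : ι) (hi : Nonempty (g' i ≅ CohB1.tensorMod L (g i))) (hne : ∀ j, j ≠ i → g' j = g j) :
    ∀ l : List ι, l.Nodup → i ∈ l →
      Nonempty (FGA.tensorList (l.map g') ≅ CohB1.tensorMod L (FGA.tensorList (l.map g)))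
  | [], _, h => absurd h List.not_mem_nil
  | a :: l, hnd, hmem => by
    obtain ⟨hal, hl⟩ := List.nodup_cons.1 hnd
    by_cases h : a = i
    · subst h
      obtain ⟨e⟩ := hi
      have he : l.map g' = l.map g :=
        List.map_congr_left fun j hj => hne j (fun h => hal (h ▸ hj))
      refine ⟨?_⟩
      show CohB1.tensorMod (g' a) (FGA.tensorList (l.map g')) ≅ _
      rw [he]
      exact tensCongr e (Iso.refl _) ≪≫ tensAssoc L (g a) _
    · have hil : i ∈ l := (List.mem_cons.1 hmem).resolve_left (fun e => h e.symm)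
      obtain ⟨e⟩ := tensorList_map_update L g g' i hi hne l hl hil
      refine ⟨?_⟩
      show CohB1.tensorMod (g' a) (FGA.tensorList (l.map g')) ≅ _
      rw [hne a h]
      exact tensCongr (Iso.refl _) e ≪≫ tensComm _ _ ≪≫
        tensAssoc L (FGA.tensorList (l.map g)) (g a) ≪≫ tensCongr (Iso.refl L) (tensComm _ _)

/-- Raising the `i`-th exponent of a multi-twist by one. -/
theorem multiTwist_succ {n : ℕ} (L : Fin n → X.Modules) (m : Fin n → ℕ) (i : Fin n) :
    Nonempty (FGA.multiTwist L (Function.update m i (m i + 1)) ≅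
      CohB1.tensorMod (L i) (FGA.multiTwist L m)) := by
  refine tensorList_map_update (L i) (fun j => CohB1.tensorPow (L j) (m j))
    (fun j => CohB1.tensorPow (L j) (Function.update m i (m i + 1) j)) i ?_
    (fun j hj => by simp [Function.update_of_ne hj]) _ (List.nodup_finRange n) (List.mem_finRange i)
  refine ⟨?_⟩
  simp only [Function.update_self]
  exact tensComm (CohB1.tensorPow (L i) (m i)) (L i)

/-- `(T_{m + e_i}) ⊗ F ≅ T_m ⊗ (L_i ⊗ F)` -/
theorem multiTwist_succ_tens {n : ℕ} (L : Fin n → X.Modules) (m : Fin n → ℕ) (i : Fin n)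
    (F : X.Modules) :
    Nonempty (CohB1.tensorMod (FGA.multiTwist L (Function.update m i (m i + 1))) F ≅
      CohB1.tensorMod (FGA.multiTwist L m) (CohB1.tensorMod (L i) F)) := by
  obtain ⟨e⟩ := multiTwist_succ L m i
  exact ⟨tensCongr e (Iso.refl F) ≪≫ tensLeftComm _ _ F⟩

end Groth.Agent.Snapper
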