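import Groth.Agent.Snapper.Twist
import Groth.Agent.Snapper.MvPoly
import Groth.Agent.EulerChar.Deg
import Groth.Agent.HilbPolyX.Dim
import Groth.Agent.CohTop.Vanishing

/-!
# Snapper's theorem and intersection numbers

For invertible modules `L₁, …, L_n` and a coherent `F` with support of dimension `≤ r` on a proper
scheme over a field, `m ↦ χ(L^m ⊗ F)` is a polynomial of total degree `≤ r`; intersection numbers
vanish above the dimension of the support and are additive in each invertible argument.
-/

universe u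

set_option linter.style.haveILetI false

open CategoryTheory CategoryTheory.Limits AlgebraicGeometry

noncomputable section

namespace Groth.Agent.Snapper

open ProjTwist

variable {X : Scheme.{u}} (k : Type u) [Field k] [X.Over (Spec (CommRingCat.of k))]
  [IsProper (X ↘ Spec (CommRingCat.of k))]

/-- coherent modules with small support, in `K₀` -/
abbrev smallK (X : Scheme.{u}) (n : WithBot ℕ∞) : AddSubgroup (SGA6.Kcoh X) :=
  AddSubgroup.closure {c : SGA6.Kcoh X | ∃ G : X.Modules, Coh.IsCoh G ∧
    topologicalKrullDim ↥(CohB1.support G) < n ∧ c = CohDev.kcl G}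

theorem le_of_lt_succ {a : WithBot ℕ∞} {n : ℕ} (h : a < ((n + 1 : ℕ) : WithBot ℕ∞)) :
    a ≤ (n : WithBot ℕ∞) := by
  revert h
  cases a with
  | bot => exact fun _ => bot_le
  | coe a =>
    intro h
    refine WithBot.coe_le_coe.2 ?_
    exact Order.le_of_lt_add_one (α := ℕ∞) (by exact_mod_cast WithBot.coe_lt_coe.1 h)

include k in
theorem isCoh_tensorMod {T G : X.Modules} (hT : PicF.IsInvertible T) (hG : Coh.IsCoh G) :
    Coh.IsCoh (CohB1.tensorMod T G) := by
  haveI := EulerChar.isNoetherian k (X := X)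
  exact CohDev.isCoh_tens (isFinLocFreeOfRank_one hT) hG

include k in
/-- `[A ⊗ G] - [G]` has smaller support. -/
theorem kcl_tens_sub_small {A G : X.Modules} (hA : PicF.IsInvertible A) (hG : Coh.IsCoh G) {r : ℕ}
    (hr : topologicalKrullDim ↥(CohB1.support G) ≤ (r : WithBot ℕ∞)) :
    CohDev.kcl (CohB1.tensorMod A G) - CohDev.kcl G ∈ smallK X r := by
  haveI := EulerChar.isNoetherian k (X := X)
  have h := CohDev.kcl_tens_sub_mem_filt (isFinLocFreeOfRank_one hA) hG r hr
  rwa [one_smul] at h

/-- `G ↦ χ(T ⊗ G)` on `K₀`. -/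
def chiT {T : X.Modules} (hT : PicF.IsInvertible T) : SGA6.Kcoh X →+ ℤ :=
  EulerChar.liftK (fun G => Curv2.euler k X (CohB1.tensorMod T G)) fun S hS h₁ h₂ h₃ =>
    EulerChar.euler_add k (S := S.map ((DCoh.tensorBi (X := X)).obj T))
      (CohDev.tens_shortExact (isFinLocFreeOfRank_one hT) hS)
      (isCoh_tensorMod k hT h₁) (isCoh_tensorMod k hT h₂) (isCoh_tensorMod k hT h₃)

theorem chiT_kcl {T G : X.Modules} (hT : PicF.IsInvertible T) (hG : Coh.IsCoh G) :
    chiT k hT (CohDev.kcl G) = Curv2.euler k X (CohB1.tensorMod T G) :=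
  EulerChar.liftK_kcl _ _ hG

/-- In dimension `≤ d` the Euler characteristic only involves degrees `≤ d`. -/
theorem eulerCharLE_eq {d : ℕ} (hd : topologicalKrullDim X ≤ d) (G : X.Modules) :
    FGA.eulerCharLE k X G d = Curv2.euler k X G := by
  haveI := EulerChar.isNoetherian k (X := X)
  exact (EulerChar.euler_eq_sum k (M := G) (t := d + 1) fun n hn =>
    CohTop.Vanishing.grothendieck_vanishing (X := X.toPresheafedSpace.carrier) d hd (Coh.toAb G) n
      (by omega)).symm

omit k [X.Over (Spec (CommRingCat.of k))] [IsProper (X ↘ Spec (CommRingCat.of k))] in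
theorem isZero_tens_of_dim_lt_zero {T G : X.Modules}
    (h : topologicalKrullDim ↥(CohB1.support G) < ((0 : ℕ) : WithBot ℕ∞)) :
    IsZero (CohB1.tensorMod T G) :=
  CohDev.isZero_of_support_eq_empty (Set.subset_empty_iff.1 <|
    (CohDev.support_tens_subset T G).trans (EulerChar.support_eq_empty_of_dim_lt h).le)

section Snapper

variable {n : ℕ} {L : Fin n → X.Modules} (hL : ∀ i, PicF.IsInvertible (L i))

include hL in
/-- Snapper's theorem. -/
theorem exists_snapper (r : ℕ) : ∀ {F : X.Modules}, Coh.IsCoh F →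
    topologicalKrullDim ↥(CohB1.support F) ≤ (r : WithBot ℕ∞) →
    ∃ P : MvPolynomial (Fin n) ℚ, P.totalDegree ≤ r ∧ ∀ m : Fin n → ℕ,
      (Curv2.euler k X (CohB1.tensorMod (FGA.multiTwist L m) F) : ℚ) =
        MvPolynomial.eval (castV m) P := by
  haveI := EulerChar.isNoetherian k (X := X)
  have hstep : ∀ (F : X.Modules), Coh.IsCoh F → ∀ (i : Fin n) (m : Fin n → ℕ),
      (Curv2.euler k X (CohB1.tensorMod (FGA.multiTwist L (Function.update m i (m i + 1))) F) : ℚ) -
        Curv2.euler k X (CohB1.tensorMod (FGA.multiTwist L m) F) =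
      (chiT k (isInvertible_multiTwist hL m)
        (CohDev.kcl (CohB1.tensorMod (L i) F) - CohDev.kcl F) : ℚ) := fun F hF i m => by
    obtain ⟨e⟩ := multiTwist_succ_tens L m i F
    rw [map_sub, chiT_kcl k _ hF, chiT_kcl k _ (isCoh_tensorMod k (hL i) hF),
      EulerChar.euler_iso k e, Int.cast_sub]
  induction r with
  | zero =>
    intro F hF hd
    obtain ⟨R, hR, hRm⟩ := exists_poly_of_diff
      (fun m => (Curv2.euler k X (CohB1.tensorMod (FGA.multiTwist L m) F) : ℚ)) 0 (fun _ => 0)
      (fun _ => by simp) fun i m => by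
      rw [hstep F hF i m, map_zero, map_zero, sub_zero, Int.cast_eq_zero]
      have hc := kcl_tens_sub_small k (hL i) hF hd
      revert hc
      generalize CohDev.kcl (CohB1.tensorMod (L i) F) - CohDev.kcl F = c
      intro hc
      induction hc using AddSubgroup.closure_induction with
      | mem x hx =>
        obtain ⟨G, hG, hGd, rfl⟩ := hx
        rw [chiT_kcl k _ hG]
        exact EulerChar.euler_of_isZero k (isZero_tens_of_dim_lt_zero hGd)
      | zero => exact map_zero _
      | add x y _ _ hx hy => rw [map_add, hx, hy, add_zero]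
      | neg x _ hx => rw [map_neg, hx, neg_zero]
    exact ⟨R, hR, hRm⟩
  | succ r ih =>
    intro F hF hd
    have key : ∀ c ∈ smallK X (r + 1 : ℕ), ∃ Q : MvPolynomial (Fin n) ℚ, Q.totalDegree ≤ r ∧
        ∀ m : Fin n → ℕ, (chiT k (isInvertible_multiTwist hL m) c : ℚ) =
          MvPolynomial.eval (castV m) Q := fun c hc => by
      induction hc using AddSubgroup.closure_induction with
      | mem x hx =>
        obtain ⟨G, hG, hGd, rfl⟩ := hx
        obtain ⟨Q, hQ, hQm⟩ := ih hG (le_of_lt_succ hGd)
        exact ⟨Q, hQ, fun m => by rw [chiT_kcl k _ hG, hQm]⟩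
      | zero => exact ⟨0, by simp, by simp⟩
      | add x y _ _ hx hy =>
        obtain ⟨P, hP, h⟩ := hx
        obtain ⟨Q, hQ, h'⟩ := hy
        exact ⟨P + Q, (MvPolynomial.totalDegree_add _ _).trans (max_le hP hQ), fun m => by
          rw [map_add, Int.cast_add, h, h', map_add]⟩
      | neg x _ hx =>
        obtain ⟨P, hP, h⟩ := hx
        exact ⟨-P, by rwa [MvPolynomial.totalDegree_neg], fun m => by
          rw [map_neg, Int.cast_neg, h, map_neg]⟩
    choose Q hQ hQm using fun i => key _ (kcl_tens_sub_small k (hL i) hF hd)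
    choose P hP hPQ using fun i => exists_antidiff_mv r (Q i) (hQ i) i
    obtain ⟨R, hR, hRm⟩ := exists_poly_of_diff
      (fun m => (Curv2.euler k X (CohB1.tensorMod (FGA.multiTwist L m) F) : ℚ)) (r + 1) P hP
      fun i m => by
      rw [hstep F hF i m, hQm i m, castV_update, hPQ i]
    exact ⟨R, hR, hRm⟩

end Snapper

section IntNum

/-- the alternating sum of Euler characteristics -/
def intE {r : ℕ} (M : Fin r → X.Modules) (F : X.Modules) : ℤ :=
  ∑ I : Finset (Fin r), (-1 : ℤ) ^ I.card *
    Curv2.euler k X (CohB1.tensorMod (FGA.tensorList ((I.sort (· ≤ ·)).map M)) F)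

theorem intNum_eq {d : ℕ} (hd : topologicalKrullDim X ≤ d) {r : ℕ} (M : Fin r → X.Modules)
    (F : X.Modules) : FGA.intNum k X d M F = intE k M F :=
  Finset.sum_congr rfl fun I _ => by rw [eulerCharLE_eq k hd]

/-- `intE` on `K₀`. -/
def intK {r : ℕ} {M : Fin r → X.Modules} (hM : ∀ i, PicF.IsInvertible (M i)) :
    SGA6.Kcoh X →+ ℤ :=
  ∑ I : Finset (Fin r), (AddMonoidHom.mulLeft ((-1 : ℤ) ^ I.card)).comp
    (chiT k (T := FGA.tensorList ((I.sort (· ≤ ·)).map M)) (isInvertible_tensorList fun N hN => by
      obtain ⟨i, -, rfl⟩ := List.mem_map.1 hN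
      exact hM i))

theorem intK_kcl {r : ℕ} {M : Fin r → X.Modules} (hM : ∀ i, PicF.IsInvertible (M i))
    {G : X.Modules} (hG : Coh.IsCoh G) : intK k hM (CohDev.kcl G) = intE k M G := by
  simp only [intK, AddMonoidHom.finsetSum_apply]
  exact Finset.sum_congr rfl fun I _ => by simp [chiT_kcl k _ hG]

theorem sort_map_succ {r : ℕ} (s : Finset (Fin r)) :
    (s.map (Fin.succEmb r)).sort (· ≤ ·) = (s.sort (· ≤ ·)).map Fin.succ := by
  refine (List.Perm.eq_of_pairwise' (r := (· ≤ ·)) (Finset.pairwise_sort _ _) ?_ ?_)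
  · exact (Finset.pairwise_sort s _).map _ fun a b h => Fin.succ_le_succ_iff.2 h
  · refine (List.perm_ext_iff_of_nodup (Finset.sort_nodup _ _)
      ((Finset.sort_nodup s _).map (Fin.succ_injective _))).2 fun a => ?_
    simp

/-- The defining recursion of `intE`. -/
theorem intE_cons {r : ℕ} {M : Fin r → X.Modules} (hM : ∀ i, PicF.IsInvertible (M i))
    {A G : X.Modules} (hA : PicF.IsInvertible A) (hG : Coh.IsCoh G) :
    intE k (Fin.cons A M) G =
      -intK k hM (CohDev.kcl (CohB1.tensorMod A G) - CohDev.kcl G) := by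
  classical
  rw [map_sub, intK_kcl k hM hG, intK_kcl k hM (isCoh_tensorMod k hA hG), neg_sub]
  unfold intE
  have e0 : ∀ s : Finset (Fin r), (0 : Fin (r + 1)) ∉ s.map (Fin.succEmb r) := fun s h => by
    obtain ⟨j, -, hj⟩ := Finset.mem_map.1 h
    exact Fin.succ_ne_zero j hj
  have hu : (Finset.univ : Finset (Fin (r + 1))) =
      insert 0 ((Finset.univ : Finset (Fin r)).map (Fin.succEmb r)) := by
    ext a
    induction a using Fin.cases <;> simp
  rw [← Finset.powerset_univ, hu, Finset.sum_powerset_insert (e0 _), Finset.map_eq_image,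
    Finset.powerset_image, Finset.sum_image (by
      intro a _ b _ h
      exact Finset.image_injective (Fin.succEmb r).injective h),
    Finset.sum_image (by
      intro a _ b _ h
      exact Finset.image_injective (Fin.succEmb r).injective h),
    Finset.powerset_univ, sub_eq_add_neg, ← Finset.sum_neg_distrib]
  refine congrArg₂ (· + ·) (Finset.sum_congr rfl fun s _ => ?_) (Finset.sum_congr rfl fun s _ => ?_)
  · rw [← Finset.map_eq_image, Finset.card_map, sort_map_succ, List.map_map]
    rfl
  · rw [← Finset.map_eq_image, Finset.card_insert_of_notMem (e0 s), Finset.card_map,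
      Finset.sort_insert (· ≤ ·) (fun a _ => Fin.zero_le a) (e0 s), sort_map_succ, List.map_cons,
      List.map_map, pow_succ, mul_neg_one, neg_mul, neg_inj]
    refine congrArg _ (EulerChar.euler_iso k ?_)
    exact tensLeftComm A (FGA.tensorList ((s.sort (· ≤ ·)).map M)) G

theorem intE_eq_zero : ∀ {r : ℕ} {M : Fin r → X.Modules}, (∀ i, PicF.IsInvertible (M i)) →
    ∀ {G : X.Modules}, Coh.IsCoh G → topologicalKrullDim ↥(CohB1.support G) < (r : WithBot ℕ∞) →
      intE k M G = 0 := by
  haveI := EulerChar.isNoetherian k (X := X)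
  intro r
  induction r with
  | zero =>
    intro M _ G hG hd
    refine Finset.sum_eq_zero fun I _ => ?_
    rw [EulerChar.euler_of_isZero k (isZero_tens_of_dim_lt_zero hd), mul_zero]
  | succ r ih =>
    intro M hM G hG hd
    obtain ⟨A, M', rfl⟩ : ∃ A M', M = Fin.cons A M' := ⟨M 0, Fin.tail M, (Fin.cons_self_tail M).symm⟩
    have hA : PicF.IsInvertible A := by simpa using hM 0
    have hM' : ∀ i, PicF.IsInvertible (M' i) := fun i => by simpa using hM i.succ
    rw [intE_cons k hM' hA hG, neg_eq_zero]
    have hc := kcl_tens_sub_small k hA hG (le_of_lt_succ hd)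
    revert hc
    generalize CohDev.kcl (CohB1.tensorMod A G) - CohDev.kcl G = c
    intro hc
    induction hc using AddSubgroup.closure_induction with
    | mem x hx =>
      obtain ⟨H, hH, hHd, rfl⟩ := hx
      rw [intK_kcl k hM' hH]
      exact ih hM' hH hHd
    | zero => exact map_zero _
    | add x y _ _ hx hy => rw [map_add, hx, hy, add_zero]
    | neg x _ hx => rw [map_neg, hx, neg_zero]

theorem intE_add {r : ℕ} {M : Fin r → X.Modules} (hM : ∀ i, PicF.IsInvertible (M i))
    {A B : X.Modules} (hA : PicF.IsInvertible A) (hB : PicF.IsInvertible B)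
    {G : X.Modules} (hG : Coh.IsCoh G)
    (hd : topologicalKrullDim ↥(CohB1.support G) ≤ ((r + 1 : ℕ) : WithBot ℕ∞)) :
    intE k (Fin.cons (CohB1.tensorMod A B) M) G =
      intE k (Fin.cons A M) G + intE k (Fin.cons B M) G := by
  have hBG := isCoh_tensorMod k hB hG
  have hAM : ∀ i, PicF.IsInvertible ((Fin.cons A M : Fin (r + 1) → X.Modules) i) := fun i => by
    induction i using Fin.cases with
    | zero => simpa using hA
    | succ i => simpa using hM i
  have hz : intE k (Fin.cons A M) (CohB1.tensorMod B G) = intE k (Fin.cons A M) G := by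
    rw [← sub_eq_zero, ← intK_kcl k hAM hBG, ← intK_kcl k hAM hG, ← map_sub]
    have hc := kcl_tens_sub_small k hB hG hd
    revert hc
    generalize CohDev.kcl (CohB1.tensorMod B G) - CohDev.kcl G = c
    intro hc
    induction hc using AddSubgroup.closure_induction with
    | mem x hx =>
      obtain ⟨H, hH, hHd, rfl⟩ := hx
      rw [intK_kcl k hAM hH]
      exact intE_eq_zero k hAM hH hHd
    | zero => exact map_zero _
    | add x y _ _ hx hy => rw [map_add, hx, hy, add_zero]
    | neg x _ hx => rw [map_neg, hx, neg_zero]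
  rw [intE_cons k hM (AmpleLib.isInvertible_tensorMod hA hB) hG, ← hz, intE_cons k hM hA hBG,
    intE_cons k hM hB hG]
  simp only [map_sub, intK_kcl k hM hG, intK_kcl k hM hBG,
    intK_kcl k hM (isCoh_tensorMod k hA hBG),
    intK_kcl k hM (isCoh_tensorMod k (AmpleLib.isInvertible_tensorMod hA hB) hG)]
  have e : intE k M (CohB1.tensorMod (CohB1.tensorMod A B) G) =
      intE k M (CohB1.tensorMod A (CohB1.tensorMod B G)) :=
    Finset.sum_congr rfl fun I _ => congrArg _
      (EulerChar.euler_iso k (tensCongr (Iso.refl _) (tensAssoc A B G)))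
  rw [e]
  ring

end IntNum

end Groth.Agent.Snapper
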