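import Mathlib.Data.Nat.Choose.Basic
import Mathlib.Algebra.BigOperators.Fin
import Mathlib.Data.Int.Basic
import Mathlib.Tactic.Ring
import Mathlib.Tactic.Linarith
import Mathlib.Tactic.LinearCombination

/-!
# Uniqueness of expansions in binomial coefficients `C(m + j, j)`
-/

namespace Groth.Agent.Snapper

theorem binom_coeff_zero : ∀ (r : ℕ) (c : ℕ) (a : Fin r → ℤ),
    (∀ m : ℕ, ∑ j : Fin r, a j * ((m + c + j).choose j : ℤ) = 0) → ∀ j, a j = 0
  | 0, _, _, _ => fun j => j.elim0
  | r + 1, c, a, h => by
    have hstep : ∀ m : ℕ, ∑ j : Fin r, a j.succ * ((m + (c + 1) + j).choose j : ℤ) +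
        0 = 0 := fun m => by
      have h1 := h (m + 1)
      have h2 := h m
      rw [Fin.sum_univ_succ] at h1 h2
      have key : ∀ j : Fin r, a j.succ * ((m + 1 + c + j.succ).choose j.succ : ℤ) =
          a j.succ * ((m + c + j.succ).choose j.succ : ℤ) +
            a j.succ * ((m + (c + 1) + j).choose j : ℤ) := fun j => by
        simp only [Fin.val_succ]
        rw [show m + 1 + c + ((j : ℕ) + 1) = (m + (c + 1) + j) + 1 by omega,
          show m + c + ((j : ℕ) + 1) = m + (c + 1) + j by omega, Nat.choose_succ_succ']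
        push_cast
        ring
      rw [Finset.sum_congr rfl fun j _ => key j, Finset.sum_add_distrib] at h1
      simp only [Fin.val_zero, Nat.choose_zero_right, Nat.cast_one, mul_one] at h1 h2
      linarith
    have ih := binom_coeff_zero r (c + 1) (fun j => a j.succ) fun m => by simpa using hstep m
    intro j
    induction j using Fin.cases with
    | zero =>
      have h0 := h 0
      rw [Fin.sum_univ_succ, Finset.sum_eq_zero fun j _ => by rw [ih j, zero_mul], add_zero] at h0
      simpa using h0
    | succ j => exact ih j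

/-- Coefficients in the basis `m ↦ C(m + j, j)` are unique. -/
theorem binom_coeff_unique {r : ℕ} {a b : Fin r → ℤ}
    (h : ∀ m : ℕ, ∑ j : Fin r, a j * ((m + j).choose j : ℤ) = ∑ j : Fin r, b j * ((m + j).choose j : ℤ))
    (j : Fin r) : a j = b j :=
  sub_eq_zero.1 (binom_coeff_zero r 0 (fun j => a j - b j) (fun m => by
    simp only [sub_mul, Finset.sum_sub_distrib, add_zero]
    exact sub_eq_zero.2 (h m)) j)

/-- Rewriting `Σ C(m + i - 1, i) I_i` in the basis `C(m + i, i)`. -/
theorem sum_choose_pred (I : ℕ → ℤ) (m : ℕ) : ∀ r : ℕ,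
    ∑ i ∈ Finset.range r, ((m + i - 1).choose i : ℤ) * I i + ((m + r - 1).choose r : ℤ) * I r =
      ∑ i ∈ Finset.range r, (I i - I (i + 1)) * ((m + i).choose i : ℤ) + ((m + r).choose r : ℤ) * I r
  | 0 => by simp
  | r + 1 => by
    rw [Finset.sum_range_succ, Finset.sum_range_succ _ r, show m + (r + 1) - 1 = m + r by omega,
      show m + (r + 1) = m + r + 1 by omega, Nat.choose_succ_succ']
    have := sum_choose_pred I m r
    push_cast
    linear_combination this

end Groth.Agent.Snapper
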